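import Groth.Agent.Lib.Helper2.Glue.LiftRetract
import Groth.Agent.Lib.Helper2.Glue.HocolimGen
import Groth.Agent.Lib.Helper13.PCohNoeth
import Groth.Agent.Lib.Helper13.PerfNoeth
import Groth.Agent.Lib.Helper2.Aff.CohPush
import Groth.Agent.Lib.Helper3.QCProps

/-!
# Bounded complexes with coherent cohomology: basic closure properties (helper2)
-/

set_option autoImplicit false
set_option linter.style.haveILetI false
universe u
open CategoryTheory CategoryTheory.Limits CategoryTheory.Pretriangulated DerivedCategory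
  AlgebraicGeometry

attribute [local instance] HasDerivedCategory.standard

namespace Groth.Agent.Lib.Helper2.ExtCoh

open Groth.Agent.Lib.Helper2.Aff Groth.Agent.Lib.Helper2.Stk Groth.Agent.Lib.Helper13
  AlgebraicGeometry.Scheme.Modules Groth.Agent.Lib.Helper13.GoodMap
  Groth.Agent.Lib.Helper2.TExactIso Groth.Agent.Lib.Helper2.Glue Groth.Agent.Lib.Helper3

/-- bounded with coherent cohomology -/
def DbCoh {X : Scheme.{u}} (K : DCoh.D X) : Prop :=
  DCoh.IsCohD K ∧ ∃ a b : ℤ, K.IsGE a ∧ K.IsLE b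

variable {X : Scheme.{u}}

lemma isCohD_of_iso {K L : DCoh.D X} (e : K ≅ L) (h : DCoh.IsCohD K) : DCoh.IsCohD L :=
  fun i => PCohNoeth.isCoh_of_iso ((DerivedCategory.homologyFunctor _ i).mapIso e) (h i)

lemma dbCoh_of_iso {K L : DCoh.D X} (e : K ≅ L) (h : DbCoh K) : DbCoh L := by
  obtain ⟨hc, a, b, ha, hb⟩ := h
  exact ⟨isCohD_of_iso e hc, a, b, TStructure.t.isGE_of_iso e a, TStructure.t.isLE_of_iso e b⟩

lemma dbCoh_of_isZero {K : DCoh.D X} (h : IsZero K) : DbCoh K :=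
  ⟨fun i => PCohNoeth.isCoh_of_isZero ((DerivedCategory.homologyFunctor _ i).map_isZero h),
    0, 0, TStructure.t.isGE_of_isZero h 0, TStructure.t.isLE_of_isZero h 0⟩

lemma isCoh_restrict {Y : Scheme.{u}} (j : Y ⟶ X) [IsOpenImmersion j] (M : X.Modules)
    (hM : Coh.IsCoh M) : Coh.IsCoh ((restrictFunctor j).obj M) := by
  haveI : M.IsQuasicoherent := hM.1
  haveI : M.IsFiniteType := hM.2
  exact ⟨Scheme.Modules.isQuasicoherent_restrictFunctor j M, QCProps.isFiniteType_restrict j M⟩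

lemma dbCoh_restrict {Y : Scheme.{u}} (j : Y ⟶ X) [IsOpenImmersion j] {K : DCoh.D X}
    (h : DbCoh K) : DbCoh ((DCoh.restrictD j).obj K) := by
  obtain ⟨hc, a, b, ha, hb⟩ := h
  refine ⟨fun i => ?_, a, b, Qcqs.isGE_mapDerivedCategory _ K a ha,
    Qcqs.isLE_mapDerivedCategory _ K b hb⟩
  obtain ⟨e⟩ := OpenEquivSupp.nonempty_HD_restrictD_iso j K i
  exact PCohNoeth.isCoh_of_iso e.symm (isCoh_restrict j _ (hc i))

lemma dbCoh_inD (F : X.Modules) (hF : Coh.IsCoh F) : DbCoh (DCoh.inD X F) := by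
  refine ⟨fun i => ?_, 0, 0, inferInstance, inferInstance⟩
  by_cases hi : i = 0
  · subst hi
    exact PCohNoeth.isCoh_of_iso ((singleFunctorCompHomologyFunctorIso X.Modules 0).app F).symm hF
  · rcases lt_or_gt_of_ne hi with h | h
    · exact PCohNoeth.isCoh_of_isZero (isZero_of_isGE (DCoh.inD X F) 0 i h)
    · exact PCohNoeth.isCoh_of_isZero (isZero_of_isLE (DCoh.inD X F) 0 i h)

section Noeth

variable [IsLocallyNoetherian X]

lemma isDevissable_isCohD : IsDevissable (fun K : DCoh.D X => DCoh.IsCohD K) :=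
  isDevissable_cohIn_map (𝟭 (DCoh.D X)) (fun M : X.Modules => Coh.IsCoh M)

lemma dbCoh_ext₂ (T : Triangle (DCoh.D X)) (hT : T ∈ distTriang _) (h₁ : DbCoh T.obj₁)
    (h₃ : DbCoh T.obj₃) : DbCoh T.obj₂ := by
  obtain ⟨hc₁, a₁, b₁, ha₁, hb₁⟩ := h₁
  obtain ⟨hc₃, a₃, b₃, ha₃, hb₃⟩ := h₃
  refine ⟨isDevissable_isCohD.ext₂ T hT hc₁ hc₃, min a₁ a₃, max b₁ b₃, ?_, ?_⟩
  · have h1 : TStructure.t.IsGE T.obj₁ (min a₁ a₃) :=
      TStructure.t.isGE_of_ge T.obj₁ (min a₁ a₃) a₁ (min_le_left _ _)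
    have h3 : TStructure.t.IsGE T.obj₃ (min a₁ a₃) :=
      TStructure.t.isGE_of_ge T.obj₃ (min a₁ a₃) a₃ (min_le_right _ _)
    exact TStructure.t.isGE₂ T hT (min a₁ a₃) h1 h3
  · have h1 : TStructure.t.IsLE T.obj₁ (max b₁ b₃) :=
      TStructure.t.isLE_of_le T.obj₁ b₁ (max b₁ b₃) (le_max_left _ _)
    have h3 : TStructure.t.IsLE T.obj₃ (max b₁ b₃) :=
      TStructure.t.isLE_of_le T.obj₃ b₃ (max b₁ b₃) (le_max_right _ _)
    exact TStructure.t.isLE₂ T hT (max b₁ b₃) h1 h3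

lemma dbCoh_shift {K : DCoh.D X} (h : DbCoh K) (n : ℤ) : DbCoh (K⟦n⟧) := by
  obtain ⟨hc, a, b, ha, hb⟩ := h
  refine ⟨isDevissable_isCohD.shift K n hc, a - n, b - n, ?_, ?_⟩
  · exact TStructure.t.isGE_shift K a n (a - n) (by omega)
  · exact TStructure.t.isLE_shift K b n (b - n) (by omega)

lemma dbCoh_truncGE {K : DCoh.D X} (h : DbCoh K) (a₀ : ℤ) :
    DbCoh ((TStructure.t.truncGE a₀).obj K) := by
  obtain ⟨hc, a, b, ha, hb⟩ := h
  refine ⟨fun i => ?_, a₀, b, inferInstance, ?_⟩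
  · by_cases hi : a₀ ≤ i
    · haveI := Groth.Agent.Lib.Helper5.TruncRlim.isIso_homology_map_truncGEπ K a₀ i hi
      exact PCohNoeth.isCoh_of_iso
        (asIso ((homologyFunctor _ i).map ((TStructure.t.truncGEπ a₀).app K))) (hc i)
    · exact PCohNoeth.isCoh_of_isZero
        (isZero_of_isGE ((TStructure.t.truncGE a₀).obj K) a₀ i (by omega))
  · rw [isLE_iff]
    intro i hi
    by_cases hi' : a₀ ≤ i
    · haveI := Groth.Agent.Lib.Helper5.TruncRlim.isIso_homology_map_truncGEπ K a₀ i hi'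
      exact (isZero_of_isLE K b i hi).of_iso
        (asIso ((homologyFunctor _ i).map ((TStructure.t.truncGEπ a₀).app K))).symm
    · exact isZero_of_isGE ((TStructure.t.truncGE a₀).obj K) a₀ i (by omega)

end Noeth

lemma dbCoh_of_isPerfect [IsNoetherian X] {K : DCoh.D X} (h : DCoh.IsPerfect K) : DbCoh K :=
  PerfNoeth.isCohD_and_bounded_of_isPerfect X K h

end Groth.Agent.Lib.Helper2.ExtCoh
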