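import Groth.Agent.Lib.Helper2.ExtCoh.Basic
import Groth.Agent.Lib.Helper2.TExact.Devissage
import Groth.Agent.S2252

/-!
# Extending bounded coherent complexes from an open of a Noetherian affine scheme (helper2)
-/

set_option autoImplicit false
set_option linter.style.haveILetI false
universe u
open CategoryTheory CategoryTheory.Limits CategoryTheory.Pretriangulated DerivedCategory
  AlgebraicGeometry

attribute [local instance] HasDerivedCategory.standard

namespace Groth.Agent.Lib.Helper2.ExtCoh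

open Groth.Agent.Lib.Helper2.Aff Groth.Agent.Lib.Helper2.Stk Groth.Agent.Lib.Helper13
  AlgebraicGeometry.Scheme.Modules Groth.Agent.Lib.Helper13.GoodMap
  Groth.Agent.Lib.Helper2.TExactIso Groth.Agent.Lib.Helper2.Glue Groth.Agent.Lib.Helper3

section Good

universe w v u'

variable {A : Type u'} [Category.{v} A] [Abelian A] [HasDerivedCategory.{w} A]

/-- middle vertex: in a morphism of distinguished triangles, if the first component is an
isomorphism and the third is `m`-good then the second is `m`-good -/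
theorem good_second {T T' : Triangle (DerivedCategory A)} (hT : T ∈ distTriang _)
    (hT' : T' ∈ distTriang _) (φ : T ⟶ T') (m : ℤ) (h₁ : IsIso φ.hom₁) (h₃ : Good m φ.hom₃) :
    Good m φ.hom₂ := by
  have h := good_third (m := m) (inv_rot_of_distTriang _ hT) (inv_rot_of_distTriang _ hT')
    ((invRotate (DerivedCategory A)).map φ) (good_shift h₃ (-1) (m + 1) (by omega))
    (good_of_isIso φ.hom₁ m)
  exact h

/-- the truncation map is good -/
theorem good_truncGEπ (K : DerivedCategory A) (a : ℤ) :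
    Good (a - 1) ((TStructure.t.truncGEπ a).app K) := by
  refine ⟨fun i hi => Groth.Agent.Lib.Helper5.TruncRlim.isIso_homology_map_truncGEπ K a i
    (by omega), ?_⟩
  exact (isZero_of_isGE ((TStructure.t.truncGE a).obj K) a (a - 1) (by omega)).epi _

/-- two objects of `D^{≥ a}` receiving `(a-1)`-good maps from the same object are isomorphic -/
theorem nonempty_iso_of_good {K L L' : DerivedCategory A} (a : ℤ) (f : K ⟶ L) (g : K ⟶ L')
    (hf : Good (a - 1) f) (hg : Good (a - 1) g) [L.IsGE a] [L'.IsGE a] : Nonempty (L ≅ L') := by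
  haveI := isIso_truncGE_of_good f a hf
  haveI := isIso_truncGE_of_good g a hg
  exact ⟨asIso ((TStructure.t.truncGEπ a).app L) ≪≫
    (asIso ((TStructure.t.truncGE a).map f)).symm ≪≫ asIso ((TStructure.t.truncGE a).map g) ≪≫
    (asIso ((TStructure.t.truncGEπ a).app L')).symm⟩

end Good

variable {V : Scheme.{u}} [IsAffine V] [IsNoetherian V] (W : V.Opens)

/-- the essential image of `D^b_Coh(V) ⥤ D(W)` -/
def InImage (F : DCoh.D (W : Scheme.{u})) : Prop :=
  ∃ G : DCoh.D V, DbCoh G ∧ Nonempty ((DCoh.restrictD W.ι).obj G ≅ F)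

lemma isCompact_opens (W : V.Opens) : IsCompact (W : Set V) :=
  TopologicalSpace.NoetherianSpace.isCompact _

lemma isQCohD_of_isCohD {X : Scheme.{u}} {K : DCoh.D X} (h : DCoh.IsCohD K) : DCoh.IsQCohD K :=
  fun i => (h i).1

section Affine

attribute [local instance] Groth.Agent.Lib.Helper14.preservesFiniteLimits_tilde

theorem inImage_ext₂ (T : Triangle (DCoh.D (W : Scheme.{u}))) (hT : T ∈ distTriang _)
    (h₁ : InImage W T.obj₁) (h₃ : InImage W T.obj₃) : InImage W T.obj₂ := by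
  obtain ⟨G₁, ⟨hc₁, a₁, b₁, ha₁, hb₁⟩, ⟨e₁⟩⟩ := h₁
  obtain ⟨G₃, ⟨hc₃, a₃, b₃, ha₃, hb₃⟩, ⟨e₃⟩⟩ := h₃
  -- a common lower bound
  obtain ⟨a₀, h01, h03⟩ : ∃ a₀ : ℤ, a₀ ≤ a₁ ∧ a₀ ≤ a₃ := ⟨min a₁ a₃, min_le_left _ _, min_le_right _ _⟩
  have hG₁ : TStructure.t.IsGE G₁ a₀ := TStructure.t.isGE_of_ge G₁ a₀ a₁ h01
  have hG₃ : TStructure.t.IsGE G₃ a₀ := TStructure.t.isGE_of_ge G₃ a₀ a₃ h03
  have hT₁ : TStructure.t.IsGE T.obj₁ a₀ := by
    haveI := Qcqs.isGE_mapDerivedCategory (restrictFunctor W.ι) G₁ a₀ hG₁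
    exact TStructure.t.isGE_of_iso e₁ a₀
  have hT₃ : TStructure.t.IsGE T.obj₃ a₀ := by
    haveI := Qcqs.isGE_mapDerivedCategory (restrictFunctor W.ι) G₃ a₀ hG₃
    exact TStructure.t.isGE_of_iso e₃ a₀
  haveI hT₂ : TStructure.t.IsGE T.obj₂ a₀ := TStructure.t.isGE₂ T hT a₀ hT₁ hT₃
  -- approximation of `G₃` by a perfect complex
  obtain ⟨r, hr⟩ := approxHolds_affine V Set.univ isClosed_univ (by
    rw [Set.compl_univ]
    exact IsRetrocompact.empty)
  obtain ⟨P, p, hP, -, hp⟩ := hr (a₀ - 1) G₃ (isQCohD_of_isCohD hc₃)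
    ((PCohNoeth.isPC_iff_coherent V G₃ (isQCohD_of_isCohD hc₃) _).2
      ⟨fun i _ => hc₃ i, b₃, hb₃⟩) (fun i _ => Set.subset_univ _)
  -- extend the connecting map
  let cs := ((DCoh.restrictD W.ι).commShiftIso (1 : ℤ)).app G₁
  let α : (DCoh.restrictD W.ι).obj P ⟶ (DCoh.restrictD W.ι).obj (G₁⟦(1 : ℤ)⟧) :=
    (DCoh.restrictD W.ι).map p ≫ e₃.hom ≫ T.mor₃ ≫ e₁.inv⟦(1 : ℤ)⟧' ≫ cs.inv
  have hq₁ : DCoh.IsQCohD (G₁⟦(1 : ℤ)⟧) :=
    isQCohD_of_isCohD (isDevissable_isCohD.shift G₁ 1 hc₁)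
  obtain ⟨P₁, β, γ, hP₁, hβ, hβγ, -⟩ := lift_map_supp_affine V W (isCompact_opens W) P
    (G₁⟦(1 : ℤ)⟧) hP hq₁ α
  haveI := hβ
  obtain ⟨G, u, v, hT'⟩ := distinguished_cocone_triangle₂ γ
  have hG : DbCoh G := dbCoh_ext₂ _ hT' ⟨hc₁, a₁, b₁, ha₁, hb₁⟩ (dbCoh_of_isPerfect hP₁)
  have hT'' := (DCoh.restrictD W.ι).map_distinguished _ hT'
  -- the comparison morphism of triangles
  let c : (DCoh.restrictD W.ι).obj P₁ ⟶ T.obj₃ :=
    (DCoh.restrictD W.ι).map β ≫ (DCoh.restrictD W.ι).map p ≫ e₃.hom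
  have hc : Good (a₀ - 1) c :=
    Good.iso_comp _ ((good_map (restrictFunctor W.ι) hp).comp_iso e₃.hom)
  obtain ⟨b, hb1, hb2⟩ := complete_distinguished_triangle_morphism₂ _ _ hT'' hT e₁.hom c (by
    show ((DCoh.restrictD W.ι).map γ ≫ cs.hom) ≫ e₁.hom⟦(1 : ℤ)⟧' = c ≫ T.mor₃
    rw [← hβγ]
    simp only [α, c, Category.assoc, Iso.inv_hom_id_assoc]
    rw [← Functor.map_comp, e₁.inv_hom_id, CategoryTheory.Functor.map_id, Category.comp_id])
  let φ : (DCoh.restrictD W.ι).mapTriangle.obj (Triangle.mk u v γ) ⟶ T :=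
    { hom₁ := e₁.hom
      hom₂ := b
      hom₃ := c
      comm₁ := hb1
      comm₂ := hb2
      comm₃ := by
        show ((DCoh.restrictD W.ι).map γ ≫ cs.hom) ≫ e₁.hom⟦(1 : ℤ)⟧' = c ≫ T.mor₃
        rw [← hβγ]
        simp only [α, c, Category.assoc, Iso.inv_hom_id_assoc]
        rw [← Functor.map_comp, e₁.inv_hom_id, CategoryTheory.Functor.map_id, Category.comp_id] }
  have hb : Good (a₀ - 1) b :=
    good_second hT'' hT φ (a₀ - 1) (inferInstanceAs (IsIso e₁.hom)) hc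
  -- truncate
  let G' := (TStructure.t.truncGE a₀).obj G
  have hπ : Good (a₀ - 1) ((DCoh.restrictD W.ι).map ((TStructure.t.truncGEπ a₀).app G)) :=
    good_map (restrictFunctor W.ι) (good_truncGEπ G a₀)
  haveI : TStructure.t.IsGE ((DCoh.restrictD W.ι).obj G') a₀ :=
    Qcqs.isGE_mapDerivedCategory _ G' a₀ inferInstance
  obtain ⟨e⟩ := nonempty_iso_of_good a₀ _ b hπ hb
  exact ⟨G', dbCoh_truncGE hG a₀, ⟨e⟩⟩

open ZeroObject in
theorem isDevissable_inImage : IsDevissable (InImage W) where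
  of_iso := by
    rintro X Y e ⟨G, hG, ⟨ε⟩⟩
    exact ⟨G, hG, ⟨ε ≪≫ e⟩⟩
  of_isZero := by
    intro X hX
    exact ⟨0, dbCoh_of_isZero (isZero_zero _),
      ⟨((DCoh.restrictD W.ι).map_isZero (isZero_zero _)).iso hX⟩⟩
  shift := by
    rintro X n ⟨G, hG, ⟨ε⟩⟩
    exact ⟨G⟦n⟧, dbCoh_shift hG n,
      ⟨((DCoh.restrictD W.ι).commShiftIso n).app G ≪≫ (shiftFunctor _ n).mapIso ε⟩⟩
  ext₂ := inImage_ext₂ W

theorem inImage_inD (A : (W : Scheme.{u}).Modules) (hA : Coh.IsCoh A) :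
    InImage W (DCoh.inD (W : Scheme.{u}) A) := by
  haveI : Coh.IsQCoh A := hA.1
  obtain ⟨G', hq, hft, ⟨e⟩⟩ := Groth.Agent.S2252.result (X := V)
    (fun x => ⟨⊤, trivial, inferInstance⟩) W A hA.2
  exact ⟨DCoh.inD V G', dbCoh_inD G' ⟨hq, hft⟩,
    ⟨PCohSingle.restrictInDIso W.ι G' ≪≫ (DerivedCategory.singleFunctor _ 0).mapIso e⟩⟩

/-- **extension of bounded coherent complexes**, affine Noetherian case -/
theorem ext_affine (F : DCoh.D (W : Scheme.{u})) (hF : DbCoh F) : InImage W F := by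
  obtain ⟨hc, a, b, ha, hb⟩ := hF
  exact (isDevissable_inImage W).of_isGE_of_isLE F a b ha hb (fun q => inImage_inD W _ (hc q))

end Affine

end Groth.Agent.Lib.Helper2.ExtCoh
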