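import Groth.Agent.Lib.Helper2.ExtCoh.Affine
import Groth.Agent.Lib.Helper2.Glue.OpenImmInduction
import Groth.Agent.Lib.Helper3.QCOpen

/-!
# Extending bounded coherent complexes from an open of a Noetherian scheme (helper2)
-/

set_option autoImplicit false
set_option linter.style.haveILetI false
universe u
open CategoryTheory CategoryTheory.Limits CategoryTheory.Pretriangulated DerivedCategory
  AlgebraicGeometry

attribute [local instance] HasDerivedCategory.standard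

namespace Groth.Agent.Lib.Helper2.ExtCoh

open Groth.Agent.Lib.Helper2.Aff Groth.Agent.Lib.Helper2.Stk Groth.Agent.Lib.Helper13
  AlgebraicGeometry.Scheme.Modules Groth.Agent.Lib.Helper13.GoodMap
  Groth.Agent.Lib.Helper2.TExactIso Groth.Agent.Lib.Helper2.Glue Groth.Agent.Lib.Helper3
  Groth.Agent.Lib.Helper2.Aff.AffModel

attribute [local instance] Groth.Agent.Lib.Helper2.Stk.hasRpush

/-- the extension property along an open immersion into a locally Noetherian scheme -/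
def Ext {Y Z : Scheme.{u}} (j : Y ⟶ Z) : Prop :=
  ∀ (_ : IsOpenImmersion j) (_ : IsLocallyNoetherian Z) (F : DCoh.D Y), DbCoh F →
    ∃ G : DCoh.D Z, DbCoh G ∧ Nonempty ((DCoh.restrictD j).obj G ≅ F)

theorem ext_of_isIso {Y Z : Scheme.{u}} (e : Y ⟶ Z) [IsIso e] : Ext e := by
  intro _ _ F hF
  exact ⟨(DCoh.restrictD (inv e)).obj F, dbCoh_restrict (inv e) hF,
    ⟨(restrictDEquiv e).counitIso.app F⟩⟩

theorem ext_comp {Y' Y Z : Scheme.{u}} (j' : Y' ⟶ Y) (j : Y ⟶ Z) [IsOpenImmersion j']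
    [IsOpenImmersion j] (h' : Ext j') (hj : Ext j) : Ext (j' ≫ j) := by
  intro _ hZ F hF
  haveI : IsLocallyNoetherian Y := isLocallyNoetherian_of_isOpenImmersion j
  obtain ⟨G', hG', ⟨e'⟩⟩ := h' inferInstance inferInstance F hF
  obtain ⟨G, hG, ⟨e⟩⟩ := hj inferInstance hZ G' hG'
  obtain ⟨c⟩ := PerfTri.nonempty_resD_comp j' j (j' ≫ j) rfl G
  exact ⟨G, hG, ⟨c.symm ≪≫ (DCoh.restrictD j').mapIso e ≪≫ e'⟩⟩

section Cover

variable {Z : Scheme.{u}}

lemma isZero_of_isZero_restrict (U V : Z.Opens) (hcov : U ⊔ V = ⊤) (M : Z.Modules)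
    (hU : IsZero ((restrictFunctor U.ι).obj M)) (hV : IsZero ((restrictFunctor V.ι).obj M)) :
    IsZero M :=
  SuppOpen.isZero_of_support U V hcov M ((QCohLoc.isZero_restrict_iff U M).1 hU)
    ((QCohLoc.isZero_restrict_iff V M).1 hV)

lemma isCoh_of_cover (U V : Z.Opens) (hcov : U ⊔ V = ⊤) (M : Z.Modules)
    (hU : Coh.IsCoh ((restrictFunctor U.ι).obj M)) (hV : Coh.IsCoh ((restrictFunctor V.ι).obj M)) :
    Coh.IsCoh M := by
  have hx : ∀ x : Z, x ∈ U ∨ x ∈ V := by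
    intro x
    have : x ∈ (U ⊔ V : Z.Opens) := by
      rw [hcov]
      trivial
    exact this
  constructor
  · apply QCOpen.isQuasicoherent_of_open_cover
    intro x
    rcases hx x with h | h
    · exact ⟨U, h, hU.1⟩
    · exact ⟨V, h, hV.1⟩
  · apply QCOpen.isFiniteType_of_open_cover
    intro x
    rcases hx x with h | h
    · exact ⟨U, h, hU.1, hU.2⟩
    · exact ⟨V, h, hV.1, hV.2⟩

/-- `D^b_Coh` is local on a two-element open cover -/
lemma dbCoh_of_cover (U V : Z.Opens) (hcov : U ⊔ V = ⊤) (K : DCoh.D Z)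
    (hU : DbCoh ((DCoh.restrictD U.ι).obj K)) (hV : DbCoh ((DCoh.restrictD V.ι).obj K)) :
    DbCoh K := by
  obtain ⟨hcU, aU, bU, haU, hbU⟩ := hU
  obtain ⟨hcV, aV, bV, haV, hbV⟩ := hV
  have key : ∀ i : ℤ, IsZero (DCoh.HD ((DCoh.restrictD U.ι).obj K) i) →
      IsZero (DCoh.HD ((DCoh.restrictD V.ι).obj K) i) → IsZero (DCoh.HD K i) := by
    intro i h1 h2
    obtain ⟨eU⟩ := OpenEquivSupp.nonempty_HD_restrictD_iso U.ι K i
    obtain ⟨eV⟩ := OpenEquivSupp.nonempty_HD_restrictD_iso V.ι K i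
    exact isZero_of_isZero_restrict U V hcov _ (h1.of_iso eU.symm) (h2.of_iso eV.symm)
  refine ⟨fun i => ?_, min aU aV, max bU bV, ?_, ?_⟩
  · obtain ⟨eU⟩ := OpenEquivSupp.nonempty_HD_restrictD_iso U.ι K i
    obtain ⟨eV⟩ := OpenEquivSupp.nonempty_HD_restrictD_iso V.ι K i
    exact isCoh_of_cover U V hcov _ (PCohNoeth.isCoh_of_iso eU (hcU i))
      (PCohNoeth.isCoh_of_iso eV (hcV i))
  · rw [isGE_iff]
    intro i hi
    exact key i (isZero_of_isGE _ aU i (lt_of_lt_of_le hi (min_le_left _ _)))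
      (isZero_of_isGE _ aV i (lt_of_lt_of_le hi (min_le_right _ _)))
  · rw [isLE_iff]
    intro i hi
    exact key i (isZero_of_isLE _ bU i (lt_of_le_of_lt (le_max_left _ _) hi))
      (isZero_of_isLE _ bV i (lt_of_le_of_lt (le_max_right _ _) hi))

open ZeroObject in
/-- the gluing step -/
theorem ext_of_cover [IsLocallyNoetherian Z] (U V : Z.Opens) (hV : IsAffineOpen V)
    (hcov : U ⊔ V = ⊤) : Ext U.ι := by
  intro _ _ F hF
  haveI : IsAffine (V : Scheme.{u}) := hV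
  haveI : IsNoetherian (V : Scheme.{u}) := {}
  let adjU := Corefl.adjOpen U.ι
  haveI := OpenFF.isIso_counit U.ι adjU
  have hWU : Set.range ((V.ι ⁻¹ᵁ U).ι ≫ V.ι) ⊆ Set.range U.ι := by
    rintro _ ⟨w, rfl⟩
    have hw : V.ι.base ((V.ι ⁻¹ᵁ U).ι.base w) ∈ U := w.2
    exact ⟨⟨_, hw⟩, rfl⟩
  let w := IsOpenImmersion.lift U.ι ((V.ι ⁻¹ᵁ U).ι ≫ V.ι) hWU
  have hw : w ≫ U.ι = (V.ι ⁻¹ᵁ U).ι ≫ V.ι := IsOpenImmersion.lift_fac _ _ _
  haveI : IsOpenImmersion (w ≫ U.ι) := by rw [hw]; infer_instance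
  haveI : IsOpenImmersion w := IsOpenImmersion.of_comp w U.ι
  obtain ⟨eF⟩ : Nonempty ((DCoh.restrictD (V.ι ⁻¹ᵁ U).ι).obj ((DCoh.restrictD V.ι).obj
      ((DCoh.Rpush U.ι).obj F)) ≅ (DCoh.restrictD w).obj F) := by
    obtain ⟨c₁⟩ := PerfTri.nonempty_resD_comp (V.ι ⁻¹ᵁ U).ι V.ι ((V.ι ⁻¹ᵁ U).ι ≫ V.ι) rfl
      ((DCoh.Rpush U.ι).obj F)
    obtain ⟨c₂⟩ := PerfTri.nonempty_resD_comp w U.ι ((V.ι ⁻¹ᵁ U).ι ≫ V.ι) hw.symm
      ((DCoh.Rpush U.ι).obj F)
    exact ⟨c₁ ≪≫ c₂.symm ≪≫ (DCoh.restrictD w).mapIso (asIso (adjU.counit.app F))⟩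
  obtain ⟨GV, hGV, ⟨ψ⟩⟩ := ext_affine (V := (V : Scheme.{u})) (V.ι ⁻¹ᵁ U)
    ((DCoh.restrictD w).obj F) (dbCoh_restrict w hF)
  haveI : (DCoh.Rpush U.ι).Additive := adjU.right_adjoint_additive
  obtain ⟨R, ρ, θ, σ, -⟩ := exists_glue_sch U V hcov F GV (0 : DCoh.D Z) (ψ ≪≫ eF.symm) 0 0 (by
    simp only [Functor.map_zero, zero_comp, comp_zero])
  exact ⟨R, dbCoh_of_cover U V hcov R (dbCoh_of_iso θ.symm hF) (dbCoh_of_iso σ.symm hGV), ⟨θ⟩⟩

end Cover

/-- **extension of bounded coherent complexes from an open of a Noetherian scheme** -/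
theorem ext_ι (X : Scheme.{u}) [IsNoetherian X] (U : X.Opens) : Ext U.ι := by
  haveI : QuasiSeparatedSpace X := inferInstance
  refine openImm_ι (fun {Y Z} j => Ext j) (fun e _ => ext_of_isIso e)
    (fun j' j _ _ _ _ _ h' h => ext_comp j' j h' h) ?_ X U
    (TopologicalSpace.NoetherianSpace.isCompact _)
  intro Z _ U V hV _ _ hcov hOI hZ
  exact ext_of_cover U V hV hcov hOI hZ

end Groth.Agent.Lib.Helper2.ExtCoh
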